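import Groth.Agent.Lib.Helper22.Cech.SiteLeray
import Groth.Agent.Lib.Helper25.DeltaFEff
import Groth.Prelude.Def_CechEdge
import Groth.Prelude.Def_DeltaF
import Mathlib.Algebra.Homology.HomologySequenceLemmas

/-!
# Čech cohomology with respect to a family over `U` as a universal δ-functor on abelian presheaves
-/

set_option autoImplicit false
set_option linter.unusedSectionVars false

universe u

open CategoryTheory CategoryTheory.Limits Opposite

namespace Groth.Agent.Lib.Helper22.CechEdge

open Groth.Agent.Lib.Helper22.Cech Groth.Agent.Lib.Helper22.Cech.Site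

variable {C : Type u} [SmallCategory C] [HasPullbacks C] {U : C} {ι : Type u} (Y : ι → Over U)

/-- Sectionwise exactness on the nerve of a short exact sequence of presheaves. -/
lemma secExact_of_shortExact_presheaf (S : ShortComplex (Cᵒᵖ ⥤ AddCommGrpCat.{u}))
    (hS : S.ShortExact) : SecExact Y (rMap (U := U) S.f) (rMap S.g) := by
  have key : ∀ W : C, (S.map ((evaluation Cᵒᵖ AddCommGrpCat.{u}).obj (op W))).ShortExact :=
    fun W => hS.map_of_exact _
  refine ⟨fun n σ => ?_, fun n σ => ?_, fun n σ x => ?_, fun n σ y hy => ?_⟩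
  · exact (AddCommGrpCat.mono_iff_injective _).1 (key (Uσ Y σ).left).mono_f
  · exact (AddCommGrpCat.epi_iff_surjective _).1 (key (Uσ Y σ).left).epi_g
  · have h := NatTrans.congr_app S.zero (op (Uσ Y σ).left)
    exact ConcreteCategory.congr_hom h x
  · exact (ShortComplex.ab_exact_iff _).1 (key (Uσ Y σ).left).exact y hy

/-- The Čech complex functor preserves short exact sequences of presheaves. -/
lemma cx_shortExact (S : ShortComplex (Cᵒᵖ ⥤ AddCommGrpCat.{u})) (hS : S.ShortExact) :
    (S.map (CechEdge.cxFunctor Y)).ShortExact := by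
  have w : rMap (U := U) S.f ≫ rMap S.g = 0 := by
    change Functor.whiskerLeft (Over.forget U).op S.f ≫ Functor.whiskerLeft (Over.forget U).op S.g = 0
    rw [← Functor.whiskerLeft_comp, S.zero]
    rfl
  exact cechSC_shortExact w (secExact_of_shortExact_presheaf Y S hS)

instance additive_cxFunctor : (CechEdge.cxFunctor (C := C) Y).Additive where
  map_add {P Q f g} := by
    apply HomologicalComplex.hom_ext
    intro n
    rw [HomologicalComplex.add_f_apply]
    ext x
    apply ext_proj
    intro σ
    rw [AddCommGrpCat.hom_add_apply, map_add]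
    erw [proj_map, proj_map, proj_map]
    rfl

/-- Abelian presheaves on a small category have enough injectives. -/
instance enoughInjectives_presheaf {D : Type u} [SmallCategory D] :
    EnoughInjectives (Dᵒᵖ ⥤ AddCommGrpCat.{u}) :=
  ((sheafBotEquivalence (C := D) AddCommGrpCat.{u}).enoughInjectives_iff).1 inferInstance

/-- Čech cohomology with respect to `Y` as a cohomological δ-functor on abelian presheaves. -/
noncomputable def cechDelta :
    DeltaF.CohDeltaFunctor (Cᵒᵖ ⥤ AddCommGrpCat.{u}) AddCommGrpCat.{u} ℕ where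
  F n := CechEdge.cxFunctor Y ⋙ HomologicalComplex.homologyFunctor _ _ n
  additive n := inferInstance
  δ S hS n₀ n₁ h := (cx_shortExact Y S hS).δ n₀ n₁ h
  δ_natural {S S'} hS hS' φ n₀ n₁ h :=
    (HomologicalComplex.HomologySequence.δ_naturality
      ((CechEdge.cxFunctor Y).mapShortComplex.map φ) (cx_shortExact Y S hS)
      (cx_shortExact Y S' hS') n₀ n₁ h).symm
  exact₂ S hS n := (cx_shortExact Y S hS).homology_exact₂ n
  comp_δ S hS n₀ n₁ h := (cx_shortExact Y S hS).comp_δ n₀ n₁ h
  exact₃ S hS n₀ n₁ h := (cx_shortExact Y S hS).homology_exact₃ n₀ n₁ h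
  δ_comp S hS n₀ n₁ h := (cx_shortExact Y S hS).δ_comp n₀ n₁ h
  exact₁ S hS n₀ n₁ h := (cx_shortExact Y S hS).homology_exact₁ n₀ n₁ h

/-- Čech cohomology is effaceable: it vanishes in positive degrees on injective presheaves. -/
lemma cechDelta_isEffaceable : (cechDelta Y).IsEffaceable := by
  intro n P
  refine ⟨Injective.under P, Injective.ι P, inferInstance, ?_⟩
  have hz : IsZero (((cechDelta Y).F (n + 1)).obj (Injective.under P)) :=
    isZero_homology_succ_of_injective Y (OverInj.res (U := U) (Injective.under P)) n
  exact hz.eq_of_tgt _ _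

/-- Čech cohomology is a universal δ-functor on abelian presheaves. -/
theorem cechDelta_isUniversal : (cechDelta Y).IsUniversal :=
  Groth.Agent.Lib.Helper25.DeltaFEff.isUniversal (cechDelta_isEffaceable Y)

end Groth.Agent.Lib.Helper22.CechEdge
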