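import Groth.Prelude.Def_CechEdge
import Groth.Prelude.Def_DeltaF

/-!
# `P ↦ H^p(U, P^#)` as a δ-functor on abelian presheaves
-/

set_option autoImplicit false
set_option linter.unusedSectionVars false

universe u

open CategoryTheory CategoryTheory.Limits Opposite Abelian

namespace Groth.Agent.Lib.Helper22.CechEdge

variable {C : Type u} [SmallCategory C] (J : GrothendieckTopology C) (U : C)

/-- `F ↦ H^n(U, F)` as a functor on abelian sheaves. -/
noncomputable abbrev HUFunctor (n : ℕ) : Sheaf J AddCommGrpCat.{u} ⥤ AddCommGrpCat.{u} :=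
  Sheaf.cohomologyPresheafFunctor J n ⋙ (evaluation Cᵒᵖ AddCommGrpCat.{u}).obj (op U)

lemma HUFunctor_map {F G : Sheaf J AddCommGrpCat.{u}} (ψ : F ⟶ G) (n : ℕ) :
    (HUFunctor J U n).map ψ =
      AddCommGrpCat.ofHom ((Ext.mk₀ ψ).postcomp (CohCx.freeSheaf J U) (add_zero n)) := rfl

lemma HUFunctor_map_apply {F G : Sheaf J AddCommGrpCat.{u}} (ψ : F ⟶ G) (n : ℕ)
    (x : Ext (CohCx.freeSheaf J U) F n) :
    (HUFunctor J U n).map ψ x = x.comp (Ext.mk₀ ψ) (add_zero n) := rfl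

lemma HUFunctor_map_add_aux {F G : Sheaf J AddCommGrpCat.{u}} (f g : F ⟶ G) (n : ℕ)
    (x : Ext (CohCx.freeSheaf J U) F n) :
    x.comp (Ext.mk₀ (f + g)) (add_zero n) =
      x.comp (Ext.mk₀ f) (add_zero n) + x.comp (Ext.mk₀ g) (add_zero n) := by
  rw [Ext.mk₀_add, Ext.comp_add]

instance additive_HUFunctor (n : ℕ) : (HUFunctor J U n).Additive where
  map_add {F G f g} := by
    ext x
    exact HUFunctor_map_add_aux J U f g n x

section aux

variable {𝒜 : Type*} [Category 𝒜] [Abelian 𝒜] [HasExt 𝒜]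

lemma nat_aux {X : 𝒜} {S S' : ShortComplex 𝒜} (hS : S.ShortExact) (hS' : S'.ShortExact)
    (φ : S ⟶ S') {n₀ n₁ : ℕ} (h : n₀ + 1 = n₁) (x : Ext X S.X₃ n₀) :
    (x.comp (Ext.mk₀ φ.τ₃) (add_zero n₀)).comp hS'.extClass h =
      (x.comp hS.extClass h).comp (Ext.mk₀ φ.τ₁) (add_zero n₁) := by
  rw [Ext.comp_assoc_of_second_deg_zero, Ext.comp_assoc_of_third_deg_zero]
  congr 1
  exact (ShortComplex.ShortExact.extClass_naturality hS hS' φ).symm

lemma comp_δ_aux {X : 𝒜} {S : ShortComplex 𝒜} (hS : S.ShortExact)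
    {n₀ n₁ : ℕ} (h : n₀ + 1 = n₁) (x : Ext X S.X₂ n₀) :
    (x.comp (Ext.mk₀ S.g) (add_zero n₀)).comp hS.extClass h = 0 := by
  rw [Ext.comp_assoc_of_second_deg_zero, ShortComplex.ShortExact.comp_extClass, Ext.comp_zero]

lemma δ_comp_aux {X : 𝒜} {S : ShortComplex 𝒜} (hS : S.ShortExact)
    {n₀ n₁ : ℕ} (h : n₀ + 1 = n₁) (x : Ext X S.X₃ n₀) :
    (x.comp hS.extClass h).comp (Ext.mk₀ S.f) (add_zero n₁) = 0 := by
  rw [Ext.comp_assoc_of_third_deg_zero, ShortComplex.ShortExact.extClass_comp, Ext.comp_zero]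

end aux

/-- The sheafified short exact sequence. -/
lemma shf_shortExact (S : ShortComplex (Cᵒᵖ ⥤ AddCommGrpCat.{u})) (hS : S.ShortExact) :
    (S.map (presheafToSheaf J AddCommGrpCat.{u})).ShortExact :=
  hS.map_of_exact (presheafToSheaf J AddCommGrpCat.{u})

/-- `P ↦ H^•(U, P^#)` as a cohomological δ-functor on abelian presheaves. -/
noncomputable def shDelta :
    DeltaF.CohDeltaFunctor (Cᵒᵖ ⥤ AddCommGrpCat.{u}) AddCommGrpCat.{u} ℕ where
  F n := presheafToSheaf J AddCommGrpCat.{u} ⋙ HUFunctor J U n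
  additive n := inferInstance
  δ S hS n₀ n₁ h :=
    AddCommGrpCat.ofHom ((shf_shortExact J S hS).extClass.postcomp (CohCx.freeSheaf J U) h)
  δ_natural {S S'} hS hS' φ n₀ n₁ h := by
    ext x
    exact nat_aux (shf_shortExact J S hS) (shf_shortExact J S' hS')
      ((presheafToSheaf J AddCommGrpCat.{u}).mapShortComplex.map φ) h x
  exact₂ S hS n := Ext.covariant_sequence_exact₂' (CohCx.freeSheaf J U) (shf_shortExact J S hS) n
  comp_δ S hS n₀ n₁ h := by
    ext x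
    exact comp_δ_aux (shf_shortExact J S hS) h x
  exact₃ S hS n₀ n₁ h :=
    Ext.covariant_sequence_exact₃' (CohCx.freeSheaf J U) (shf_shortExact J S hS) n₀ n₁ h
  δ_comp S hS n₀ n₁ h := by
    ext x
    exact δ_comp_aux (shf_shortExact J S hS) h x
  exact₁ S hS n₀ n₁ h :=
    Ext.covariant_sequence_exact₁' (CohCx.freeSheaf J U) (shf_shortExact J S hS) n₀ n₁ h

end Groth.Agent.Lib.Helper22.CechEdge
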