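import Groth.Agent.Lib.Helper22.CechEdge.CechDelta
import Groth.Agent.Lib.Helper22.CechEdge.ShDelta

/-!
# Existence and uniqueness of the family of edge maps `Ȟ^p(Y, P) → H^p(U, P^#)`
-/

set_option autoImplicit false
set_option linter.unusedSectionVars false

universe u

open CategoryTheory CategoryTheory.Limits Opposite Abelian

namespace Groth.Agent.Lib.Helper22.CechEdge

open Groth.Agent.Lib.Helper22.Cech Groth.Agent.Lib.Helper22.Cech.Site

variable {C : Type u} [SmallCategory C] [HasPullbacks C] (J : GrothendieckTopology C)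
  {U : C} {ι : Type u} (Y : ι → Over U)

lemma toCech_eq (P : Cᵒᵖ ⥤ AddCommGrpCat.{u}) : CechEdge.toCech Y P = (toH0 Y P).hom := rfl

lemma toCech_naturality {P Q : Cᵒᵖ ⥤ AddCommGrpCat.{u}} (φ : P ⟶ Q) (s : P.obj (op U)) :
    CechEdge.cechHMap Y φ 0 (CechEdge.toCech Y P s) = CechEdge.toCech Y Q (φ.app (op U) s) := by
  have h := ConcreteCategory.congr_hom (toH0_naturality Y P φ) s
  rw [ConcreteCategory.comp_apply, ConcreteCategory.comp_apply] at h
  exact h

variable {Y} in
lemma toCech_bijective (hY : Sieve.ofArrows (fun i => (Y i).left) (fun i => (Y i).hom) ∈ J U)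
    (Q : Sheaf J AddCommGrpCat.{u}) : Function.Bijective (CechEdge.toCech Y Q.obj) :=
  toH0_bijective Y Q hY

/-- Naturality of `sectH0`. -/
lemma sectH0_naturality {F G : Sheaf J AddCommGrpCat.{u}} (ψ : F ⟶ G) (s : F.obj.obj (op U)) :
    CechEdge.HUmap ψ 0 U (CechEdge.sectH0 J U F s) =
      CechEdge.sectH0 J U G (ψ.hom.app (op U) s) := by
  change (Ext.mk₀ ((CohFree.homEquivSect J U F).symm s)).comp (Ext.mk₀ ψ) (add_zero 0) =
    Ext.mk₀ ((CohFree.homEquivSect J U G).symm (ψ.hom.app (op U) s))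
  rw [Ext.mk₀_comp_mk₀]
  congr 1
  apply (CohFree.homEquivSect J U G).injective
  rw [homEquivSect_naturality_right, AddEquiv.apply_symm_apply, AddEquiv.apply_symm_apply]

lemma cechHMap_comp {P Q R : Cᵒᵖ ⥤ AddCommGrpCat.{u}} (f : P ⟶ Q) (g : Q ⟶ R) (p : ℕ)
    (x : CohCx.cechH P Y p) :
    CechEdge.cechHMap Y (f ≫ g) p x = CechEdge.cechHMap Y g p (CechEdge.cechHMap Y f p x) := by
  have h := ((cechDelta Y).F p).map_comp f g
  exact ConcreteCategory.congr_hom h x

lemma HUmap_comp {F G H : Sheaf J AddCommGrpCat.{u}} (f : F ⟶ G) (g : G ⟶ H) (p : ℕ)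
    (x : CohSite.HU F p U) :
    CechEdge.HUmap (f ≫ g) p U x = CechEdge.HUmap g p U (CechEdge.HUmap f p U x) := by
  have h := (HUFunctor J U p).map_comp f g
  exact ConcreteCategory.congr_hom h x

lemma HUmap_id (F : Sheaf J AddCommGrpCat.{u}) (p : ℕ) (x : CohSite.HU F p U) :
    CechEdge.HUmap (𝟙 F) p U x = x := by
  have h := (HUFunctor J U p).map_id F
  exact ConcreteCategory.congr_hom h x

lemma HUmap_bijective_of_isIso {F G : Sheaf J AddCommGrpCat.{u}} (f : F ⟶ G) [IsIso f] (p : ℕ) :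
    Function.Bijective (CechEdge.HUmap f p U) := by
  have : IsIso ((HUFunctor J U p).map f) := inferInstance
  exact ConcreteCategory.bijective_of_isIso ((HUFunctor J U p).map f)

section t0

variable {Y} (hY : Sieve.ofArrows (fun i => (Y i).left) (fun i => (Y i).hom) ∈ J U)

/-- The degree-`0` comparison map `Ȟ^0(Y, P) → H^0(U, P^#)`. -/
noncomputable def t0App (P : Cᵒᵖ ⥤ AddCommGrpCat.{u}) :
    CohCx.cechH P Y 0 →+ CohSite.HU (CechEdge.shf J P) 0 U :=
  ((CechEdge.sectH0 J U (CechEdge.shf J P)).toAddMonoidHom.comp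
    (AddEquiv.ofBijective (CechEdge.toCech Y (CechEdge.shf J P).obj)
      (toCech_bijective J hY _)).symm.toAddMonoidHom).comp
    (CechEdge.cechHMap Y (toSheafify J P) 0)

lemma t0App_spec (P : Cᵒᵖ ⥤ AddCommGrpCat.{u}) (x : CohCx.cechH P Y 0)
    (s : (CechEdge.shf J P).obj.obj (op U))
    (hs : CechEdge.toCech Y (CechEdge.shf J P).obj s = CechEdge.cechHMap Y (toSheafify J P) 0 x) :
    t0App J hY P x = CechEdge.sectH0 J U (CechEdge.shf J P) s := by
  change CechEdge.sectH0 J U (CechEdge.shf J P) ((AddEquiv.ofBijective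
    (CechEdge.toCech Y (CechEdge.shf J P).obj) (toCech_bijective J hY _)).symm
      (CechEdge.cechHMap Y (toSheafify J P) 0 x)) = _
  congr 1
  rw [AddEquiv.symm_apply_eq]
  exact hs.symm

include hY in
lemma exists_section (P : Cᵒᵖ ⥤ AddCommGrpCat.{u}) (x : CohCx.cechH P Y 0) :
    ∃ s : (CechEdge.shf J P).obj.obj (op U),
      CechEdge.toCech Y (CechEdge.shf J P).obj s = CechEdge.cechHMap Y (toSheafify J P) 0 x :=
  (toCech_bijective J hY _).2 _

lemma t0App_toCech (P : Cᵒᵖ ⥤ AddCommGrpCat.{u}) (s : P.obj (op U)) :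
    t0App J hY P (CechEdge.toCech Y P s) =
      CechEdge.sectH0 J U (CechEdge.shf J P) (((toSheafify J P).app (op U)).hom s) :=
  t0App_spec J hY P _ _ (toCech_naturality Y (toSheafify J P) s).symm

lemma t0App_naturality {P P' : Cᵒᵖ ⥤ AddCommGrpCat.{u}} (φ : P ⟶ P') (x : CohCx.cechH P Y 0) :
    t0App J hY P' (CechEdge.cechHMap Y φ 0 x) =
      CechEdge.HUmap (CechEdge.shfMap J φ) 0 U (t0App J hY P x) := by
  obtain ⟨s, hs⟩ := exists_section J hY P x
  rw [t0App_spec J hY P x s hs, sectH0_naturality]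
  apply t0App_spec
  have h1 := toCech_naturality Y (CechEdge.shfMap J φ).hom s
  rw [← h1, hs, ← cechHMap_comp, ← cechHMap_comp]
  congr 2
  exact (toSheafify_naturality J φ).symm

/-- The degree-`0` comparison as a natural transformation. -/
noncomputable def t0 : (cechDelta Y).F 0 ⟶ (shDelta J U).F 0 where
  app P := AddCommGrpCat.ofHom (t0App J hY P)
  naturality P P' φ := by
    ext x
    exact t0App_naturality J hY φ x

end t0

section exist

variable {Y}

/-- The family of maps underlying a morphism of δ-functors `cechDelta Y ⟶ shDelta J U`. -/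
noncomputable def famOfHom (τ : cechDelta Y ⟶ shDelta J U) (P : Cᵒᵖ ⥤ AddCommGrpCat.{u}) (p : ℕ) :
    CohCx.cechH P Y p →+ CohSite.HU (CechEdge.shf J P) p U :=
  ((τ.app p).app P).hom

lemma isEdge_famOfHom (hY : Sieve.ofArrows (fun i => (Y i).left) (fun i => (Y i).hom) ∈ J U)
    (τ : cechDelta Y ⟶ shDelta J U) (hτ : τ.app 0 = t0 J hY) :
    CechEdge.IsEdge J Y (famOfHom J τ) where
  cover := hY
  zero P s := by
    change ((τ.app 0).app P).hom (CechEdge.toCech Y P s) = _
    rw [hτ]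
    exact t0App_toCech J hY P s
  natural P Q φ p x := ConcreteCategory.congr_hom ((τ.app p).naturality φ) x
  delta S hS hC p x := ConcreteCategory.congr_hom (τ.comm S hS p (p + 1) rfl) x

/-- **Existence of the edge family** for a covering family. -/
theorem exists_isEdge (hY : Sieve.ofArrows (fun i => (Y i).left) (fun i => (Y i).hom) ∈ J U) :
    ∃ e : ∀ (P : Cᵒᵖ ⥤ AddCommGrpCat.{u}) (p : ℕ),
      CohCx.cechH P Y p →+ CohSite.HU (CechEdge.shf J P) p U, CechEdge.IsEdge J Y e := by
  obtain ⟨τ, hτ, -⟩ := cechDelta_isUniversal Y (shDelta J U) (t0 J hY)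
  exact ⟨famOfHom J τ, isEdge_famOfHom J hY τ hτ⟩

variable {J}
variable {e : ∀ (P : Cᵒᵖ ⥤ AddCommGrpCat.{u}) (p : ℕ),
    CohCx.cechH P Y p →+ CohSite.HU (CechEdge.shf J P) p U} (he : CechEdge.IsEdge J Y e)

/-- The morphism of δ-functors attached to an edge family. -/
noncomputable def homOfIsEdge : cechDelta Y ⟶ shDelta J U :=
  ({ app := fun p =>
      { app := fun P => AddCommGrpCat.ofHom (e P p)
        naturality := fun P Q φ => by
          ext x
          exact he.natural P Q φ p x }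
     comm := fun S hS n₀ n₁ h => by
      subst h
      ext x
      exact he.delta S hS (cx_shortExact Y S hS) n₀ x } :
    DeltaF.CohDeltaFunctor.Hom (cechDelta Y) (shDelta J U))

lemma homOfIsEdge_app (p : ℕ) (P : Cᵒᵖ ⥤ AddCommGrpCat.{u}) :
    ((homOfIsEdge he).app p).app P = AddCommGrpCat.ofHom (e P p) := rfl

include he in
lemma cover_of_isEdge : Sieve.ofArrows (fun i => (Y i).left) (fun i => (Y i).hom) ∈ J U := he.cover

variable (J) in
instance isIso_shfMap_toSheafify (P : Cᵒᵖ ⥤ AddCommGrpCat.{u}) :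
    IsIso (CechEdge.shfMap J (toSheafify J P)) := by
  have h : CechEdge.shfMap J (toSheafify J P) ≫
      (sheafificationAdjunction J AddCommGrpCat.{u}).counit.app (CechEdge.shf J P) = 𝟙 _ :=
    (sheafificationAdjunction J AddCommGrpCat.{u}).left_triangle_components P
  exact IsIso.of_isIso_fac_right h

variable {e' : ∀ (P : Cᵒᵖ ⥤ AddCommGrpCat.{u}) (p : ℕ),
    CohCx.cechH P Y p →+ CohSite.HU (CechEdge.shf J P) p U} (he' : CechEdge.IsEdge J Y e')

include he he' in
/-- Two edge families agree in degree `0`. -/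
lemma isEdge_zero_eq (P : Cᵒᵖ ⥤ AddCommGrpCat.{u}) (x : CohCx.cechH P Y 0) :
    e P 0 x = e' P 0 x := by
  apply (HUmap_bijective_of_isIso J (CechEdge.shfMap J (toSheafify J P)) 0).1
  rw [← he.natural, ← he'.natural]
  obtain ⟨s, hs⟩ := (toCech_bijective J he.cover (CechEdge.shf J P)).2
    (CechEdge.cechHMap Y (toSheafify J P) 0 x)
  rw [← hs, he.zero, he'.zero]

include he he' in
/-- **Uniqueness of the edge family.** -/
theorem isEdge_unique : e = e' := by
  have h0 : (homOfIsEdge he').app 0 = (homOfIsEdge he).app 0 := by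
    ext P x
    exact (isEdge_zero_eq he he' P x).symm
  obtain ⟨τ, -, hτ⟩ := cechDelta_isUniversal Y (shDelta J U) ((homOfIsEdge he).app 0)
  have h1 : homOfIsEdge he = homOfIsEdge he' := (hτ _ rfl).trans (hτ _ h0).symm
  funext P p
  ext x
  have h2 := congrArg (fun σ : cechDelta Y ⟶ shDelta J U => ((σ.app p).app P).hom x) h1
  exact h2

end exist

end Groth.Agent.Lib.Helper22.CechEdge
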