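import Groth.Agent.Lib.Helper22.CechEdge.Edge

/-!
# Basic properties of the comparison maps `edgeSh e F p : Ȟ^p(Y, F) → H^p(U, F)` for sheaves
-/

set_option autoImplicit false
set_option linter.unusedSectionVars false

universe u

open CategoryTheory CategoryTheory.Limits Opposite Abelian

namespace Groth.Agent.Lib.Helper22.CechEdge

open Groth.Agent.Lib.Helper22.Cech Groth.Agent.Lib.Helper22.Cech.Site

variable {C : Type u} [SmallCategory C] [HasPullbacks C] {J : GrothendieckTopology C}
  {U : C} {ι : Type u} {Y : ι → Over U}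
  {e : ∀ (P : Cᵒᵖ ⥤ AddCommGrpCat.{u}) (p : ℕ),
    CohCx.cechH P Y p →+ CohSite.HU (CechEdge.shf J P) p U} (he : CechEdge.IsEdge J Y e)

/-- The counit of the sheafification adjunction at a sheaf. -/
noncomputable abbrev counit (F : Sheaf J AddCommGrpCat.{u}) : CechEdge.shf J F.obj ⟶ F :=
  (sheafificationAdjunction J AddCommGrpCat.{u}).counit.app F

lemma edgeSh_apply (F : Sheaf J AddCommGrpCat.{u}) (p : ℕ) (x : CohCx.cechH F.obj Y p) :
    CechEdge.edgeSh e F p x = CechEdge.HUmap (counit F) p U (e F.obj p x) := rfl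

lemma counit_naturality {F G : Sheaf J AddCommGrpCat.{u}} (ψ : F ⟶ G) :
    CechEdge.shfMap J ψ.hom ≫ counit G = counit F ≫ ψ :=
  (sheafificationAdjunction J AddCommGrpCat.{u}).counit.naturality ψ

include he in
/-- Naturality of `edgeSh` in the sheaf. -/
lemma edgeSh_naturality {F G : Sheaf J AddCommGrpCat.{u}} (ψ : F ⟶ G) (p : ℕ)
    (x : CohCx.cechH F.obj Y p) :
    CechEdge.edgeSh e G p (CechEdge.cechHMap Y ψ.hom p x) =
      CechEdge.HUmap ψ p U (CechEdge.edgeSh e F p x) := by
  rw [edgeSh_apply, edgeSh_apply, he.natural, ← HUmap_comp, ← HUmap_comp, counit_naturality]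

include he in
/-- `edgeSh` in degree `0` on the class of a section. -/
lemma edgeSh_toCech (F : Sheaf J AddCommGrpCat.{u}) (s : F.obj.obj (op U)) :
    CechEdge.edgeSh e F 0 (CechEdge.toCech Y F.obj s) = CechEdge.sectH0 J U F s := by
  rw [edgeSh_apply, he.zero, sectH0_naturality]
  congr 1
  have h := (sheafificationAdjunction J AddCommGrpCat.{u}).right_triangle_components F
  have h2 := NatTrans.congr_app (congrArg (fun φ => φ) h) (op U)
  exact ConcreteCategory.congr_hom h2 s

include he in
/-- `edgeSh` is bijective in degree `0`. -/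
lemma edgeSh_zero_bijective (F : Sheaf J AddCommGrpCat.{u}) :
    Function.Bijective (CechEdge.edgeSh e F 0) := by
  have hb := toCech_bijective J he.cover F
  have hcomp : ⇑(CechEdge.edgeSh e F 0) ∘ ⇑(CechEdge.toCech Y F.obj) = ⇑(CechEdge.sectH0 J U F) := by
    funext s
    exact edgeSh_toCech he F s
  have h2 : Function.Bijective (⇑(CechEdge.edgeSh e F 0) ∘ ⇑(CechEdge.toCech Y F.obj)) := by
    rw [hcomp]
    exact (CechEdge.sectH0 J U F).bijective
  exact (Function.Bijective.of_comp_iff _ hb).1 h2

end Groth.Agent.Lib.Helper22.CechEdge
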