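import Groth.Agent.Lib.Helper22.CechEdge.ShDelta
import Groth.Agent.Lib.Helper25.DeltaFEff

/-!
# `B ↦ Ext^•(A, Φ B)` as a δ-functor, for an exact functor `Φ`
-/

set_option autoImplicit false
set_option linter.unusedSectionVars false

universe w v v' u u'

open CategoryTheory CategoryTheory.Limits Opposite Abelian

namespace Groth.Agent.Lib.Helper22.CechEdge

variable {𝒜 : Type u} [Category.{v} 𝒜] [Abelian 𝒜] [HasExt.{w} 𝒜]
  {ℬ : Type u'} [Category.{v'} ℬ] [Abelian ℬ]
  (Φ : ℬ ⥤ 𝒜) [Φ.Additive] [PreservesFiniteLimits Φ] [PreservesFiniteColimits Φ] (A : 𝒜)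

lemma extFunctorObj_map_apply {B B' : 𝒜} (ψ : B ⟶ B') (n : ℕ) (x : Ext A B n) :
    (extFunctorObj A n).map ψ x = x.comp (Ext.mk₀ ψ) (add_zero n) := rfl

lemma extFunctorObj_map_add_aux {B B' : 𝒜} (f g : B ⟶ B') (n : ℕ) (x : Ext A B n) :
    x.comp (Ext.mk₀ (f + g)) (add_zero n) =
      x.comp (Ext.mk₀ f) (add_zero n) + x.comp (Ext.mk₀ g) (add_zero n) := by
  rw [Ext.mk₀_add, Ext.comp_add]

instance additive_extFunctorObj (n : ℕ) : (extFunctorObj A n).Additive where
  map_add {B B' f g} := by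
    ext x
    exact extFunctorObj_map_add_aux A f g n x

/-- `B ↦ Ext^•(A, Φ B)` as a cohomological δ-functor. -/
noncomputable def extDelta : DeltaF.CohDeltaFunctor ℬ AddCommGrpCat.{w} ℕ where
  F n := Φ ⋙ extFunctorObj A n
  additive n := inferInstance
  δ S hS n₀ n₁ h := AddCommGrpCat.ofHom ((hS.map_of_exact Φ).extClass.postcomp A h)
  δ_natural {S S'} hS hS' φ n₀ n₁ h := by
    ext x
    exact nat_aux (hS.map_of_exact Φ) (hS'.map_of_exact Φ) (Φ.mapShortComplex.map φ) h x
  exact₂ S hS n := Ext.covariant_sequence_exact₂' A (hS.map_of_exact Φ) n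
  comp_δ S hS n₀ n₁ h := by
    ext x
    exact comp_δ_aux (hS.map_of_exact Φ) h x
  exact₃ S hS n₀ n₁ h := Ext.covariant_sequence_exact₃' A (hS.map_of_exact Φ) n₀ n₁ h
  δ_comp S hS n₀ n₁ h := by
    ext x
    exact δ_comp_aux (hS.map_of_exact Φ) h x
  exact₁ S hS n₀ n₁ h := Ext.covariant_sequence_exact₁' A (hS.map_of_exact Φ) n₀ n₁ h

/-- If `Φ` preserves injectives and the source has enough injectives, `extDelta` is effaceable. -/
lemma extDelta_isEffaceable [EnoughInjectives ℬ]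
    (hΦ : ∀ I : ℬ, Injective I → Injective (Φ.obj I)) : (extDelta Φ A).IsEffaceable := by
  intro n P
  refine ⟨Injective.under P, Injective.ι P, inferInstance, ?_⟩
  have : Injective (Φ.obj (Injective.under P)) := hΦ _ inferInstance
  ext x
  exact Ext.eq_zero_of_injective _

theorem extDelta_isUniversal [EnoughInjectives ℬ]
    (hΦ : ∀ I : ℬ, Injective I → Injective (Φ.obj I)) : (extDelta Φ A).IsUniversal :=
  Groth.Agent.Lib.Helper25.DeltaFEff.isUniversal (extDelta_isEffaceable Φ A hΦ)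

end Groth.Agent.Lib.Helper22.CechEdge
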