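import Groth.Agent.Lib.Helper22.CechEdge.EdgeSh

/-!
# Dimension shifting for the comparison maps: `Ȟ¹` injectivity and Leray's theorem
-/

set_option autoImplicit false
set_option linter.unusedSectionVars false

universe u

open CategoryTheory CategoryTheory.Limits Opposite Abelian

namespace Groth.Agent.Lib.Helper22.CechEdge

open Groth.Agent.Lib.Helper22.Cech Groth.Agent.Lib.Helper22.Cech.Site
open Groth.Agent.Lib.Helper25.DeltaFEff

variable {C : Type u} [SmallCategory C] [HasPullbacks C] {J : GrothendieckTopology C}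

section presheafSES

variable (F : Sheaf J AddCommGrpCat.{u})

/-- The presheaf-level short exact sequence `F → I → I/F` (presheaf cokernel) of the injective hull
sequence of a sheaf. -/
noncomputable abbrev Spre : ShortComplex (Cᵒᵖ ⥤ AddCommGrpCat.{u}) :=
  sesOf ((sheafToPresheaf J AddCommGrpCat.{u}).map (injSC F).f)

instance mono_Spre_f : Mono ((sheafToPresheaf J AddCommGrpCat.{u}).map (injSC F).f) := by
  have := (injSC_shortExact F).mono_f
  infer_instance

lemma Spre_shortExact : (Spre F).ShortExact := sesOf_shortExact _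

/-- The comparison from the presheaf cokernel to the sheaf cokernel. -/
noncomputable def cmp : (Spre F).X₃ ⟶ (injSC F).X₃.obj :=
  cokernel.desc _ ((sheafToPresheaf J AddCommGrpCat.{u}).map (injSC F).g) (by
    rw [← Functor.map_comp, (injSC F).zero, Functor.map_zero])

@[reassoc]
lemma π_cmp : (Spre F).g ≫ cmp F = (sheafToPresheaf J AddCommGrpCat.{u}).map (injSC F).g :=
  cokernel.π_desc _ _ _

lemma π_cmp_apply (V : C) (y : (injSC F).X₂.obj.obj (op V)) :
    (cmp F).app (op V) ((Spre F).g.app (op V) y) = (injSC F).g.hom.app (op V) y :=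
  ConcreteCategory.congr_hom (NatTrans.congr_app (π_cmp F) (op V)) y

lemma Spre_g_surjective (V : C) : Function.Surjective ((Spre F).g.app (op V)) :=
  (AddCommGrpCat.epi_iff_surjective _).1
    ((Spre_shortExact F).map_of_exact ((evaluation Cᵒᵖ AddCommGrpCat.{u}).obj (op V))).epi_g

lemma Spre_g_f_apply (V : C) (x : F.obj.obj (op V)) :
    (Spre F).g.app (op V) ((injSC F).f.hom.app (op V) x) = 0 :=
  ConcreteCategory.congr_hom (NatTrans.congr_app (Spre F).zero (op V)) x

/-- The comparison `I/F → Q` is injective on sections. -/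
lemma cmp_injective (V : C) : Function.Injective ((cmp F).app (op V)) := by
  rw [injective_iff_map_eq_zero]
  intro q hq
  obtain ⟨y, rfl⟩ := Spre_g_surjective F V q
  rw [π_cmp_apply] at hq
  have := (injSC_shortExact F).mono_f
  obtain ⟨x, rfl⟩ := sections_exact_of_left_exact (injSC_shortExact F).1 this V y hq
  exact Spre_g_f_apply F V x

/-- The comparison `I/F → Q` is surjective on sections over `V` if `I(V) → Q(V)` is. -/
lemma cmp_surjective (V : C) (h : Function.Surjective ((injSC F).g.hom.app (op V))) :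
    Function.Surjective ((cmp F).app (op V)) := by
  intro t
  obtain ⟨s, rfl⟩ := h t
  exact ⟨_, π_cmp_apply F V s⟩

end presheafSES

section star

variable (F : Sheaf J AddCommGrpCat.{u})

/-- The map `(I/F)^# → Q` adjoint to `cmp`. -/
noncomputable def dmap : CechEdge.shf J (Spre F).X₃ ⟶ (injSC F).X₃ :=
  CechEdge.shfMap J (cmp F) ≫ counit (injSC F).X₃

/-- The morphism from the sheafified presheaf sequence to the injective hull sequence. -/
noncomputable def Φ : (Spre F).map (presheafToSheaf J AddCommGrpCat.{u}) ⟶ injSC F where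
  τ₁ := counit F
  τ₂ := counit (injSC F).X₂
  τ₃ := dmap F
  comm₁₂ := (counit_naturality (injSC F).f).symm
  comm₂₃ := by
    change counit (injSC F).X₂ ≫ (injSC F).g =
      (presheafToSheaf J AddCommGrpCat.{u}).map (Spre F).g ≫ dmap F
    unfold dmap
    rw [← Category.assoc]
    change _ = ((presheafToSheaf J AddCommGrpCat.{u}).map (Spre F).g ≫
      (presheafToSheaf J AddCommGrpCat.{u}).map (cmp F)) ≫ _
    rw [← Functor.map_comp, π_cmp]
    exact (counit_naturality (injSC F).g).symm

variable {U : C} {ι : Type u} {Y : ι → Over U}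
  {e : ∀ (P : Cᵒᵖ ⥤ AddCommGrpCat.{u}) (p : ℕ),
    CohCx.cechH P Y p →+ CohSite.HU (CechEdge.shf J P) p U} (he : CechEdge.IsEdge J Y e)

include he in
/-- The key compatibility: the comparison maps intertwine the Čech connecting map of the presheaf
sequence `F → I → I/F` and the Ext connecting map of the sheaf sequence `F → I → Q`. -/
lemma edgeSh_δ (hC : ((Spre F).map (CechEdge.cxFunctor Y)).ShortExact) (p : ℕ)
    (x : CohCx.cechH (Spre F).X₃ Y p) :
    CechEdge.edgeSh e F (p + 1) ((hC.δ p (p + 1) rfl).hom x) =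
      CechEdge.extδ (injSC_shortExact F) U p
        (CechEdge.edgeSh e (injSC F).X₃ p (CechEdge.cechHMap Y (cmp F) p x)) := by
  have h1 : e F.obj (p + 1) ((hC.δ p (p + 1) rfl).hom x) =
      CechEdge.extδ (shf_shortExact J (Spre F) (Spre_shortExact F)) U p (e (Spre F).X₃ p x) :=
    he.delta (Spre F) (Spre_shortExact F) hC p x
  have h2 : CechEdge.edgeSh e (injSC F).X₃ p (CechEdge.cechHMap Y (cmp F) p x) =
      CechEdge.HUmap (dmap F) p U (e (Spre F).X₃ p x) := by
    rw [edgeSh_apply, he.natural, ← HUmap_comp]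
    rfl
  have h3 : CechEdge.edgeSh e F (p + 1) ((hC.δ p (p + 1) rfl).hom x) =
      CechEdge.HUmap (counit F) (p + 1) U
        (CechEdge.extδ (shf_shortExact J (Spre F) (Spre_shortExact F)) U p (e (Spre F).X₃ p x)) :=
    congrArg (CechEdge.HUmap (counit F) (p + 1) U) h1
  rw [h3, h2]
  exact (nat_aux (shf_shortExact J (Spre F) (Spre_shortExact F)) (injSC_shortExact F) (Φ F)
    (rfl : p + 1 = p + 1) (e (Spre F).X₃ p x)).symm

end star

section cechSide

variable {U : C} {ι : Type u} (Y : ι → Over U) {P Q : Cᵒᵖ ⥤ AddCommGrpCat.{u}} (φ : P ⟶ Q)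

lemma cmap_injective_of_injective (n : ℕ)
    (h : ∀ σ : Fin (n + 1) → ι, Function.Injective (φ.app (op (Uσ Y σ).left))) :
    Function.Injective (cmap Y (rMap (U := U) φ) n) := by
  intro x y hxy
  apply ext_proj
  intro σ
  apply h σ
  have h1 := proj_map Y (rP P) (rMap (U := U) φ) n σ x
  have h2 := proj_map Y (rP P) (rMap (U := U) φ) n σ y
  exact h1.symm.trans ((congrArg (fun z => proj Y (rP Q) n σ z) hxy).trans h2)

lemma cmap_surjective_of_surjective (n : ℕ)
    (h : ∀ σ : Fin (n + 1) → ι, Function.Surjective (φ.app (op (Uσ Y σ).left))) :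
    Function.Surjective (cmap Y (rMap (U := U) φ) n) := by
  intro y
  choose x hx using fun σ : Fin (n + 1) → ι => h σ (proj Y (rP Q) n σ y)
  refine ⟨_root_.Groth.Agent.Lib.Helper22.Cech.mk Y (rP P) x, ?_⟩
  apply ext_proj
  intro σ
  have h1 := proj_map Y (rP P) (rMap (U := U) φ) n σ (_root_.Groth.Agent.Lib.Helper22.Cech.mk Y (rP P) x)
  have h2 : proj Y (rP P) n σ (_root_.Groth.Agent.Lib.Helper22.Cech.mk Y (rP P) x) = x σ :=
    proj_mk Y (rP P) x σ
  exact h1.trans ((congrArg (fun z => φ.app (op (Uσ Y σ).left) z) h2).trans (hx σ))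

/-- A morphism of presheaves that is bijective on the nerve induces bijections on Čech cohomology. -/
lemma cechHMap_bijective_of_bijective
    (h : ∀ (n : ℕ) (σ : Fin (n + 1) → ι), Function.Bijective (φ.app (op (Uσ Y σ).left))) (p : ℕ) :
    Function.Bijective (CechEdge.cechHMap Y φ p) := by
  have h1 : ∀ n, IsIso (((CechEdge.cxFunctor Y).map φ).f n) := by
    intro n
    rw [ConcreteCategory.isIso_iff_bijective]
    exact ⟨cmap_injective_of_injective Y φ n fun σ => (h n σ).1,
      cmap_surjective_of_surjective Y φ n fun σ => (h n σ).2⟩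
  have h2 : IsIso ((CechEdge.cxFunctor Y).map φ) := HomologicalComplex.Hom.isIso_of_components _
  have h3 : IsIso (HomologicalComplex.homologyMap ((CechEdge.cxFunctor Y).map φ) p) := inferInstance
  exact ConcreteCategory.bijective_of_isIso _

/-- A morphism of presheaves that is injective on the members of the family induces an injection on
`Ȟ⁰`. -/
lemma cechHMap_zero_injective_of_injective
    (h : ∀ σ : Fin 1 → ι, Function.Injective (φ.app (op (Uσ Y σ).left))) :
    Function.Injective (CechEdge.cechHMap Y φ 0) := by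
  have h1 : Mono (((CechEdge.cxFunctor Y).map φ).f 0) :=
    (AddCommGrpCat.mono_iff_injective _).2 (cmap_injective_of_injective Y φ 0 h)
  have h2 : Mono (HomologicalComplex.cyclesMap ((CechEdge.cxFunctor Y).map φ) 0) := by
    have e := HomologicalComplex.cyclesMap_i ((CechEdge.cxFunctor Y).map φ) 0
    have : Mono (HomologicalComplex.cyclesMap ((CechEdge.cxFunctor Y).map φ) 0 ≫
        ((CechEdge.cxFunctor Y).obj Q).iCycles 0) := by
      rw [e]
      infer_instance
    exact mono_of_mono _ (((CechEdge.cxFunctor Y).obj Q).iCycles 0)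
  have h3 : Mono (HomologicalComplex.homologyMap ((CechEdge.cxFunctor Y).map φ) 0) := by
    have e : ((CechEdge.cxFunctor Y).obj P).homologyπ 0 ≫
        HomologicalComplex.homologyMap ((CechEdge.cxFunctor Y).map φ) 0 =
        HomologicalComplex.cyclesMap ((CechEdge.cxFunctor Y).map φ) 0 ≫
          ((CechEdge.cxFunctor Y).obj Q).homologyπ 0 :=
      HomologicalComplex.homologyπ_naturality _ 0
    have e' : HomologicalComplex.homologyMap ((CechEdge.cxFunctor Y).map φ) 0 =
        inv (((CechEdge.cxFunctor Y).obj P).homologyπ 0) ≫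
          HomologicalComplex.cyclesMap ((CechEdge.cxFunctor Y).map φ) 0 ≫
            ((CechEdge.cxFunctor Y).obj Q).homologyπ 0 := by
      rw [← e, IsIso.inv_hom_id_assoc]
    rw [e']
    infer_instance
  exact (AddCommGrpCat.mono_iff_injective _).1 h3

end cechSide

section step

variable (F : Sheaf J AddCommGrpCat.{u}) {U : C} {ι : Type u} {Y : ι → Over U}
  {e : ∀ (P : Cᵒᵖ ⥤ AddCommGrpCat.{u}) (p : ℕ),
    CohCx.cechH P Y p →+ CohSite.HU (CechEdge.shf J P) p U} (he : CechEdge.IsEdge J Y e)

lemma cech_δ_surjective (hC : ((Spre F).map (CechEdge.cxFunctor Y)).ShortExact) (p : ℕ) :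
    Function.Surjective (hC.δ p (p + 1) rfl).hom := by
  have hz : IsZero (((Spre F).map (CechEdge.cxFunctor Y)).X₂.homology (p + 1)) :=
    isZero_cechH_succ_of_injective (injSC F).X₂ Y p
  exact (AddCommGrpCat.epi_iff_surjective _).1 (hC.epi_δ p (p + 1) rfl hz)

lemma cech_δ_π (hC : ((Spre F).map (CechEdge.cxFunctor Y)).ShortExact) (p : ℕ)
    (w : CohCx.cechH (injSC F).X₂.obj Y p) :
    (hC.δ p (p + 1) rfl).hom (CechEdge.cechHMap Y (Spre F).g p w) = 0 :=
  ConcreteCategory.congr_hom (hC.comp_δ p (p + 1) rfl) w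

include he in
/-- Inductive step for injectivity. -/
lemma step_injective (p : ℕ)
    (hQ : Function.Injective (CechEdge.edgeSh e (injSC F).X₃ p))
    (hI : Function.Surjective (CechEdge.edgeSh e (injSC F).X₂ p))
    (hc : Function.Injective (CechEdge.cechHMap Y (cmp F) p)) :
    Function.Injective (CechEdge.edgeSh e F (p + 1)) := by
  have hC := cx_shortExact Y (Spre F) (Spre_shortExact F)
  rw [injective_iff_map_eq_zero]
  intro x hx
  obtain ⟨y, rfl⟩ := cech_δ_surjective F hC p x
  rw [edgeSh_δ F he hC p y] at hx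
  obtain ⟨v, hv⟩ := Ext.covariant_sequence_exact₃ (CohCx.freeSheaf J U) (injSC_shortExact F) _ rfl hx
  obtain ⟨w, rfl⟩ := hI v
  have h4 : CechEdge.edgeSh e (injSC F).X₃ p (CechEdge.cechHMap Y (injSC F).g.hom p w) =
      CechEdge.edgeSh e (injSC F).X₃ p (CechEdge.cechHMap Y (cmp F) p y) :=
    (edgeSh_naturality he (injSC F).g p w).trans hv
  have h5 := hQ h4
  have h6 : CechEdge.cechHMap Y (cmp F) p (CechEdge.cechHMap Y (Spre F).g p w) =
      CechEdge.cechHMap Y (cmp F) p y := by
    rw [← cechHMap_comp, π_cmp]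
    exact h5
  rw [← hc h6]
  exact cech_δ_π F hC p w

include he in
/-- Inductive step for surjectivity. -/
lemma step_surjective (p : ℕ)
    (hQ : Function.Surjective (CechEdge.edgeSh e (injSC F).X₃ p))
    (hc : Function.Surjective (CechEdge.cechHMap Y (cmp F) p)) :
    Function.Surjective (CechEdge.edgeSh e F (p + 1)) := by
  have hC := cx_shortExact Y (Spre F) (Spre_shortExact F)
  intro v
  obtain ⟨u', hu⟩ := Ext.covariant_sequence_exact₁ (CohCx.freeSheaf J U) (injSC_shortExact F) v
    (Ext.eq_zero_of_injective _) (rfl : p + 1 = p + 1)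
  obtain ⟨w, rfl⟩ := hQ u'
  obtain ⟨y, rfl⟩ := hc w
  exact ⟨(hC.δ p (p + 1) rfl).hom y, (edgeSh_δ F he hC p y).trans hu⟩

include he in
/-- **The comparison map `Ȟ¹(Y, F) → H¹(U, F)` is injective.** -/
theorem edgeSh_one_injective : Function.Injective (CechEdge.edgeSh e F 1) :=
  step_injective F he 0 (edgeSh_zero_bijective he _).1 (edgeSh_zero_bijective he _).2
    (cechHMap_zero_injective_of_injective Y (cmp F) fun σ => cmp_injective F _)

include he in
/-- **Leray's theorem for the comparison maps.** -/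
theorem edgeSh_bijective_of_lerayGood (p : ℕ) :
    ∀ F : Sheaf J AddCommGrpCat.{u}, LerayGood Y F → Function.Bijective (CechEdge.edgeSh e F p) := by
  induction p with
  | zero => exact fun F _ => edgeSh_zero_bijective he F
  | succ p ih =>
    intro F hF
    have hcb : Function.Bijective (CechEdge.cechHMap Y (cmp F) p) :=
      cechHMap_bijective_of_bijective Y (cmp F) (fun n σ => ⟨cmp_injective F _,
        cmp_surjective F _ (surjective_of_ext_one_eq_zero (injSC F) (injSC_shortExact F) _
          (hF n σ 0))⟩) p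
    have hI : LerayGood Y (injSC F).X₂ := fun n σ q x => Ext.eq_zero_of_injective x
    exact ⟨step_injective F he p (ih _ hF.quot).1 (ih _ hI).2 hcb.1,
      step_surjective F he p (ih _ hF.quot).2 hcb.2⟩

end step

end Groth.Agent.Lib.Helper22.CechEdge
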