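import Groth.Agent.Lib.Helper22.CechEdge.Leray

/-!
# Compatibility of the comparison maps with refinement of families
-/

set_option autoImplicit false
set_option linter.unusedSectionVars false

universe u

open CategoryTheory CategoryTheory.Limits Opposite Abelian

namespace Groth.Agent.Lib.Helper22.CechEdge

open Groth.Agent.Lib.Helper22.Cech Groth.Agent.Lib.Helper22.Cech.Site

variable {C : Type u} [SmallCategory C] [HasPullbacks C] {J : GrothendieckTopology C}
  {U : C} {ι κ : Type u} {Y : ι → Over U} {Y' : κ → Over U}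
  (f : FormalCoproduct.mk ι Y ⟶ FormalCoproduct.mk κ Y')

/-- The index map of a refinement. -/
abbrev rIdx {n : ℕ} (σ : Fin (n + 1) → ι) : Fin (n + 1) → κ := f.f ∘ σ

/-- The map on iterated fibre products induced by a refinement. -/
noncomputable abbrev rProd {n : ℕ} (σ : Fin (n + 1) → ι) : Uσ Y σ ⟶ Uσ Y' (rIdx f σ) :=
  Limits.Pi.map fun a => f.φ (σ a)

/-- The refinement map of Čech complexes, typed on `cxFunctor`. -/
noncomputable def refineHom (P : Cᵒᵖ ⥤ AddCommGrpCat.{u}) :
    (CechEdge.cxFunctor Y').obj P ⟶ (CechEdge.cxFunctor Y).obj P :=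
  CohCx.cechRefine P f

lemma refineHom_eq (P : Cᵒᵖ ⥤ AddCommGrpCat.{u}) : refineHom f P = CohCx.cechRefine P f := rfl

lemma refine_proj (P : Cᵒᵖ ⥤ AddCommGrpCat.{u}) (n : ℕ) (σ : Fin (n + 1) → ι) :
    (refineHom f P).f n ≫ proj Y (rP P) n σ =
      proj Y' (rP P) n (rIdx f σ) ≫ (rP P).map (rProd f σ).op :=
  Limits.Pi.lift_π (fun τ : Fin (n + 1) → ι =>
    proj Y' (rP P) n (rIdx f τ) ≫ (rP P).map (rProd f τ).op) σ

lemma refine_naturality {P Q : Cᵒᵖ ⥤ AddCommGrpCat.{u}} (φ : P ⟶ Q) :
    (CechEdge.cxFunctor Y').map φ ≫ refineHom f Q =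
      refineHom f P ≫ (CechEdge.cxFunctor Y).map φ := by
  apply HomologicalComplex.hom_ext
  intro n
  refine Limits.Pi.hom_ext _ _ (fun (σ : Fin (n + 1) → ι) => ?_)
  change (((CechEdge.cxFunctor Y').map φ).f n ≫ (refineHom f Q).f n) ≫ proj Y (rP Q) n σ =
    ((refineHom f P).f n ≫ ((CechEdge.cxFunctor Y).map φ).f n) ≫ proj Y (rP Q) n σ
  rw [Category.assoc, Category.assoc, refine_proj]
  have h1 : ((CechEdge.cxFunctor Y).map φ).f n ≫ proj Y (rP Q) n σ =
      proj Y (rP P) n σ ≫ (rMap (U := U) φ).app (op (Uσ Y σ)) := map_proj Y (rP P) (rMap φ) n σ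
  have h2 : ((CechEdge.cxFunctor Y').map φ).f n ≫ proj Y' (rP Q) n (rIdx f σ) =
      proj Y' (rP P) n (rIdx f σ) ≫ (rMap (U := U) φ).app (op (Uσ Y' (rIdx f σ))) :=
    map_proj Y' (rP P) (rMap φ) n (rIdx f σ)
  rw [h1, ← Category.assoc, h2, ← Category.assoc, refine_proj, Category.assoc, Category.assoc]
  congr 1
  exact ((rMap (U := U) φ).naturality (rProd f σ).op).symm

lemma resHom_proj (P : Cᵒᵖ ⥤ AddCommGrpCat.{u}) (n : ℕ) (σ : Fin (n + 1) → ι) :
    resHom Y P n ≫ proj Y (rP P) n σ = P.map (Uσ Y σ).hom.op :=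
  Limits.Pi.lift_π _ σ

lemma resHom_refine (P : Cᵒᵖ ⥤ AddCommGrpCat.{u}) (n : ℕ) :
    resHom Y' P n ≫ (refineHom f P).f n = resHom Y P n := by
  refine Limits.Pi.hom_ext _ _ (fun (σ : Fin (n + 1) → ι) => ?_)
  change (resHom Y' P n ≫ (refineHom f P).f n) ≫ proj Y (rP P) n σ = resHom Y P n ≫ proj Y (rP P) n σ
  rw [Category.assoc, refine_proj, ← Category.assoc, resHom_proj, resHom_proj]
  change P.map (Uσ Y' (rIdx f σ)).hom.op ≫ P.map (rProd f σ).left.op = _
  rw [← P.map_comp, ← op_comp, Over.w]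

/-- Refinement is compatible with the canonical maps from sections to `Ȟ⁰`. -/
lemma toH0_refine (P : Cᵒᵖ ⥤ AddCommGrpCat.{u}) :
    toH0 Y' P ≫ HomologicalComplex.homologyMap (refineHom f P) 0 = toH0 Y P := by
  unfold toH0
  rw [Category.assoc, HomologicalComplex.homologyπ_naturality, ← Category.assoc,
    HomologicalComplex.liftCycles_comp_cyclesMap]
  congr 1
  rw [← cancel_mono ((CK Y (rP P)).iCycles 0)]
  simp only [HomologicalComplex.liftCycles_i]
  exact (HomologicalComplex.liftCycles_i _ _ _ _ _).trans (resHom_refine f P 0)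

lemma toCech_refine (P : Cᵒᵖ ⥤ AddCommGrpCat.{u}) (s : P.obj (op U)) :
    (HomologicalComplex.homologyMap (refineHom f P) 0).hom (CechEdge.toCech Y' P s) =
      CechEdge.toCech Y P s :=
  ConcreteCategory.congr_hom (toH0_refine f P) s

lemma homologyMap_refine_naturality {P Q : Cᵒᵖ ⥤ AddCommGrpCat.{u}} (φ : P ⟶ Q) (p : ℕ)
    (x : CohCx.cechH P Y' p) :
    (HomologicalComplex.homologyMap (refineHom f Q) p).hom (CechEdge.cechHMap Y' φ p x) =
      CechEdge.cechHMap Y φ p ((HomologicalComplex.homologyMap (refineHom f P) p).hom x) := by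
  have h := congrArg (fun ψ => HomologicalComplex.homologyMap ψ p) (refine_naturality f φ)
  simp only [HomologicalComplex.homologyMap_comp] at h
  exact ConcreteCategory.congr_hom h x

section fam

variable (e : ∀ (P : Cᵒᵖ ⥤ AddCommGrpCat.{u}) (p : ℕ),
    CohCx.cechH P Y p →+ CohSite.HU (CechEdge.shf J P) p U)

/-- The pullback of a family of comparison maps along a refinement. -/
noncomputable def refineFam (P : Cᵒᵖ ⥤ AddCommGrpCat.{u}) (p : ℕ) :
    CohCx.cechH P Y' p →+ CohSite.HU (CechEdge.shf J P) p U :=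
  (e P p).comp (HomologicalComplex.homologyMap (refineHom f P) p).hom

lemma refineFam_apply (P : Cᵒᵖ ⥤ AddCommGrpCat.{u}) (p : ℕ) (x : CohCx.cechH P Y' p) :
    refineFam f e P p x = e P p ((HomologicalComplex.homologyMap (refineHom f P) p).hom x) := rfl

variable {e} (he : CechEdge.IsEdge J Y e)

include he in
/-- The pullback of an edge family along a refinement is an edge family. -/
lemma isEdge_refineFam
    (hY' : Sieve.ofArrows (fun i => (Y' i).left) (fun i => (Y' i).hom) ∈ J U) :
    CechEdge.IsEdge J Y' (refineFam f e) where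
  cover := hY'
  zero P s := by
    rw [refineFam_apply, toCech_refine]
    exact he.zero P s
  natural P Q φ p x := by
    rw [refineFam_apply, refineFam_apply, homologyMap_refine_naturality]
    exact he.natural P Q φ p _
  delta S hS hC p x := by
    have hC0 := cx_shortExact Y S hS
    let Ψ : S.map (CechEdge.cxFunctor Y') ⟶ S.map (CechEdge.cxFunctor Y) :=
      { τ₁ := refineHom f S.X₁
        τ₂ := refineHom f S.X₂
        τ₃ := refineHom f S.X₃
        comm₁₂ := (refine_naturality f S.f).symm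
        comm₂₃ := (refine_naturality f S.g).symm }
    have hn := HomologicalComplex.HomologySequence.δ_naturality Ψ hC hC0 p (p + 1) rfl
    have hn' := ConcreteCategory.congr_hom hn x
    refine Eq.trans ?_ (he.delta S hS hC0 p
      ((HomologicalComplex.homologyMap (refineHom f S.X₃) p).hom x))
    exact congrArg (e S.X₁ (p + 1)) hn'

variable {e' : ∀ (P : Cᵒᵖ ⥤ AddCommGrpCat.{u}) (p : ℕ),
    CohCx.cechH P Y' p →+ CohSite.HU (CechEdge.shf J P) p U} (he' : CechEdge.IsEdge J Y' e')

include he he' in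
/-- **Compatibility of the comparison maps with refinement.** -/
theorem edgeSh_refine (F : Sheaf J AddCommGrpCat.{u}) (p : ℕ) (x : CohCx.cechH F.obj Y' p) :
    CechEdge.edgeSh e F p ((HomologicalComplex.homologyMap (CohCx.cechRefine F.obj f) p).hom x) =
      CechEdge.edgeSh e' F p x := by
  have h := isEdge_unique (isEdge_refineFam f he he'.cover) he'
  rw [← h]
  rfl

end fam

end Groth.Agent.Lib.Helper22.CechEdge
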