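import Groth.Agent.Lib.Helper22.CechEdge.Edge

/-!
# A presheaf is a sheaf iff `P(U) → Ȟ⁰(Y, P)` is bijective for all covering families
-/

set_option autoImplicit false
set_option linter.unusedSectionVars false

universe u

open CategoryTheory CategoryTheory.Limits Opposite

namespace Groth.Agent.Lib.Helper22.CechEdge

open Groth.Agent.Lib.Helper22.Cech Groth.Agent.Lib.Helper22.Cech.Site

variable {C : Type u} [SmallCategory C] [HasPullbacks C] (J : GrothendieckTopology C)

lemma exists_cycle (K : CochainComplex AddCommGrpCat.{u} ℕ) (a : K.X 0) (ha : K.d 0 1 a = 0) :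
    ∃ z : K.cycles 0, K.iCycles 0 z = a := by
  have hex : (ShortComplex.mk (K.iCycles 0) (K.d 0 1) (K.iCycles_d 0 1)).Exact :=
    ShortComplex.exact_of_f_is_kernel _ (K.cyclesIsKernel 0 1 (by simp))
  exact (ShortComplex.ab_exact_iff _).1 hex a ha

section

variable {U : C} {ι : Type u} (Y : ι → Over U) (P : Cᵒᵖ ⥤ AddCommGrpCat.{u})

/-- The `0`-cochain attached to a family of sections over the members of the family. -/
noncomputable def cochainOfFamily (x : ∀ i, P.obj (op (Y i).left)) : (CK Y (rP P)).X 0 :=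
  mk Y (rP P) fun σ => P.map (Pi.π (Y ∘ σ) 0).left.op (x (σ 0))

lemma proj_cochainOfFamily (x : ∀ i, P.obj (op (Y i).left)) (σ : Fin 1 → ι) :
    proj Y (rP P) 0 σ (cochainOfFamily Y P x) = P.map (Pi.π (Y ∘ σ) 0).left.op (x (σ 0)) :=
  proj_mk Y (rP P) _ σ

lemma map_map_apply {A B D : C} (f : A ⟶ B) (g : B ⟶ D) (y : P.obj (op D)) :
    P.map f.op (P.map g.op y) = P.map (f ≫ g).op y := by
  rw [op_comp, P.map_comp]
  rfl

lemma ev_cochainOfFamily (x : ∀ i, P.obj (op (Y i).left)) {z : Over U} (i : ι) (G : z ⟶ Y i) :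
    ev Y (rP P) (cochainOfFamily Y P x) (sing Y ⟨i, G⟩) = P.map G.left.op (x i) := by
  have h1 : ev Y (rP P) (cochainOfFamily Y P x) (sing Y ⟨i, G⟩) =
      P.map (toProd Y (sing Y (⟨i, G⟩ : SV Y z))).left.op
        (P.map (Pi.π (Y ∘ idx Y (sing Y (⟨i, G⟩ : SV Y z))) 0).left.op (x i)) :=
    congrArg (fun y => P.map (toProd Y (sing Y (⟨i, G⟩ : SV Y z))).left.op y)
      (proj_cochainOfFamily Y P x _)
  rw [h1]
  have h := congrArg (fun φ : z ⟶ Y i => φ.left) (toProd_π Y (sing Y (⟨i, G⟩ : SV Y z)) 0)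
  have h' : (toProd Y (sing Y (⟨i, G⟩ : SV Y z))).left ≫
      (Pi.π (Y ∘ idx Y (sing Y (⟨i, G⟩ : SV Y z))) 0).left = G.left := h
  refine (map_map_apply P (toProd Y (sing Y (⟨i, G⟩ : SV Y z))).left
    (Pi.π (Y ∘ idx Y (sing Y (⟨i, G⟩ : SV Y z))) 0).left (x i)).trans ?_
  exact congrArg (fun φ => P.map (Quiver.Hom.op φ) (x i)) h'

lemma d_cochainOfFamily (x : ∀ i, P.obj (op (Y i).left))
    (hx : Presieve.Arrows.Compatible (P ⋙ forget AddCommGrpCat.{u}) (fun i => (Y i).hom) x) :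
    (CK Y (rP P)).d 0 1 (cochainOfFamily Y P x) = 0 := by
  apply ext_proj
  intro σ
  rw [← ev_can, ev_d_zero, map_zero]
  have e1 : ev Y (rP P) (cochainOfFamily Y P x) (sing Y (can Y σ 1)) =
      P.map (Pi.π (Y ∘ σ) 1).left.op (x (σ 1)) := ev_cochainOfFamily Y P x (σ 1) (Pi.π (Y ∘ σ) 1)
  have e0 : ev Y (rP P) (cochainOfFamily Y P x) (sing Y (can Y σ 0)) =
      P.map (Pi.π (Y ∘ σ) 0).left.op (x (σ 0)) := ev_cochainOfFamily Y P x (σ 0) (Pi.π (Y ∘ σ) 0)
  have hc : P.map (Pi.π (Y ∘ σ) 1).left.op (x (σ 1)) = P.map (Pi.π (Y ∘ σ) 0).left.op (x (σ 0)) :=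
    hx (σ 1) (σ 0) _ (Pi.π (Y ∘ σ) 1).left (Pi.π (Y ∘ σ) 0).left
      ((Over.w (Pi.π (Y ∘ σ) 1)).trans (Over.w (Pi.π (Y ∘ σ) 0)).symm)
  rw [e1, e0]
  exact sub_eq_zero.2 hc

lemma resCochain_eq_cochainOfFamily (x : ∀ i, P.obj (op (Y i).left)) (t : P.obj (op U))
    (ht : ∀ i, P.map (Y i).hom.op t = x i) :
    resCochain Y P t 0 = cochainOfFamily Y P x := by
  apply ext_proj
  intro σ
  rw [proj_resCochain, proj_cochainOfFamily, ← ht (σ 0), map_map_apply]
  have hw : (Pi.π (Y ∘ σ) 0).left ≫ (Y (σ 0)).hom = (Uσ Y σ).hom := Over.w (Pi.π (Y ∘ σ) 0)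
  rw [hw]

lemma restrict_of_resCochain_eq (x : ∀ i, P.obj (op (Y i).left)) (t : P.obj (op U))
    (ht : resCochain Y P t 0 = cochainOfFamily Y P x) (i : ι) :
    P.map (Y i).hom.op t = x i := by
  have h1 := congrArg (fun a => ev Y (rP P) a (sing Y ⟨i, 𝟙 (Y i)⟩)) ht
  simp only [ev_resCochain, ev_cochainOfFamily] at h1
  rw [h1]
  change P.map (𝟙 _) (x i) = x i
  rw [P.map_id]
  rfl

/-- Bijectivity of `toCech` yields unique amalgamations for the family. -/
lemma existsUnique_of_toCech_bijective (hb : Function.Bijective (CechEdge.toCech Y P))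
    (x : ∀ i, P.obj (op (Y i).left))
    (hx : Presieve.Arrows.Compatible (P ⋙ forget AddCommGrpCat.{u}) (fun i => (Y i).hom) x) :
    ∃! t : P.obj (op U), ∀ i, P.map (Y i).hom.op t = x i := by
  have hi : Function.Injective ((CK Y (rP P)).iCycles 0) :=
    (AddCommGrpCat.mono_iff_injective _).1 inferInstance
  have hl : ∀ s, (CK Y (rP P)).iCycles 0
      ((CK Y (rP P)).liftCycles (resHom Y P 0) 1 (by simp) (resHom_d Y P) s) =
        resCochain Y P s 0 := by
    intro s
    rw [← ConcreteCategory.comp_apply, HomologicalComplex.liftCycles_i, resHom_apply]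
  have h2 : Function.Bijective ((CK Y (rP P)).homologyπ 0) :=
    ConcreteCategory.bijective_of_isIso _
  have h3 : ⇑(ConcreteCategory.hom (toH0 Y P)) =
      ⇑(ConcreteCategory.hom ((CK Y (rP P)).homologyπ 0)) ∘
        ⇑(ConcreteCategory.hom ((CK Y (rP P)).liftCycles (resHom Y P 0) 1 (by simp)
          (resHom_d Y P))) := by
    funext s
    exact ConcreteCategory.comp_apply _ _ s
  have hb' : Function.Bijective (toH0 Y P) := hb
  rw [h3] at hb'
  have h1 : Function.Bijective
      ((CK Y (rP P)).liftCycles (resHom Y P 0) 1 (by simp) (resHom_d Y P)) :=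
    (Function.Bijective.of_comp_iff' h2 _).1 hb'
  obtain ⟨z, hz⟩ := exists_cycle _ _ (d_cochainOfFamily Y P x hx)
  obtain ⟨s, hs⟩ := h1.2 z
  have hs' : resCochain Y P s 0 = cochainOfFamily Y P x := by
    rw [← hl, hs, hz]
  refine ⟨s, restrict_of_resCochain_eq Y P x s hs', fun t ht => ?_⟩
  apply h1.1
  apply hi
  rw [hl, hl, hs']
  exact resCochain_eq_cochainOfFamily Y P x t ht

end

/-- **Sheaf criterion**: a presheaf of abelian groups is a sheaf iff for every covering family the map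
from sections to degree-`0` Čech cohomology is bijective. -/
theorem isSheaf_iff_toCech_bijective (P : Cᵒᵖ ⥤ AddCommGrpCat.{u}) :
    Presheaf.IsSheaf J P ↔ ∀ (U : C) (ι : Type u) (Y : ι → Over U),
      Sieve.ofArrows (fun i => (Y i).left) (fun i => (Y i).hom) ∈ J U →
        Function.Bijective (CechEdge.toCech Y P) := by
  constructor
  · intro hP U ι Y hY
    exact toCech_bijective J hY ⟨P, hP⟩
  · intro h
    rw [Presheaf.isSheaf_iff_isSheaf_forget J P (forget AddCommGrpCat.{u}), isSheaf_iff_isSheaf_of_type]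
    intro X S hS
    let ι : Type u := Σ V : C, {f : V ⟶ X // S f}
    let Y : ι → Over X := fun i => Over.mk i.2.1
    have hgen : Sieve.generate (Presieve.ofArrows (fun i => (Y i).left) (fun i => (Y i).hom)) = S := by
      apply le_antisymm
      · rw [Sieve.generate_le_iff]
        rintro V f ⟨i⟩
        exact i.2.2
      · intro V f hf
        exact ⟨V, 𝟙 V, f, Presieve.ofArrows.mk (⟨V, f, hf⟩ : ι), Category.id_comp f⟩
    have hY : Sieve.ofArrows (fun i => (Y i).left) (fun i => (Y i).hom) ∈ J X := by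
      change Sieve.generate _ ∈ J X
      rw [hgen]
      exact hS
    have hsf : Presieve.IsSheafFor (P ⋙ forget AddCommGrpCat.{u})
        (Presieve.ofArrows (fun i => (Y i).left) (fun i => (Y i).hom)) := by
      rw [Presieve.isSheafFor_arrows_iff]
      intro x hx
      exact existsUnique_of_toCech_bijective Y P (h X ι Y hY) x hx
    rw [Presieve.isSheafFor_iff_generate, hgen] at hsf
    exact hsf

end Groth.Agent.Lib.Helper22.CechEdge
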