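import Groth.Agent.Lib.Helper22.CechEdge.ExtDelta
import Groth.Agent.Lib.Helper22.CechEdge.CechDelta

/-!
# Čech cohomology of a presheaf with respect to a family as `Ext` out of the free presheaf on the
generated sieve (trivial topology)
-/

set_option autoImplicit false
set_option linter.unusedSectionVars false

universe u

open CategoryTheory CategoryTheory.Limits Opposite Abelian

namespace Groth.Agent.Lib.Helper22.CechEdge.SieveCech

open Groth.Agent.Lib.Helper22.Cech Groth.Agent.Lib.Helper22.Cech.Site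

variable {C : Type u} [SmallCategory C] [HasPullbacks C] {X : C} {ι : Type u} (Y : ι → Over X)

/-- The sieve generated by the family. -/
abbrev R : Sieve X := Sieve.ofArrows (fun i => (Y i).left) (fun i => (Y i).hom)

/-- The free abelian presheaf on the sieve. -/
abbrev ZR : Cᵒᵖ ⥤ AddCommGrpCat.{u} := (R Y).functor ⋙ AddCommGrpCat.free.{u}

lemma mem_of_hom {z : Over X} {i : ι} (G : z ⟶ Y i) : (R Y).arrows z.hom := by
  rw [← Over.w G]
  exact (R Y).downward_closed (Sieve.ofArrows_mk _ _ i) G.left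

lemma mem_of_sv {z : Over X} (s : SV Y z) : (R Y).arrows z.hom := mem_of_hom Y s.2

/-- The generator of `ZR` attached to an object over `X` whose structure map lies in the sieve. -/
def gen (z : Over X) (h : (R Y).arrows z.hom) : (ZR Y).obj (op z.left) :=
  FreeAbelianGroup.of (⟨z.hom, h⟩ : {f : z.left ⟶ X // (R Y).arrows f})

lemma ZR_map_gen {z z' : Over X} (g : z' ⟶ z) (h : (R Y).arrows z.hom)
    (h' : (R Y).arrows z'.hom) : (ZR Y).map g.left.op (gen Y z h) = gen Y z' h' := by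
  have h1 : FreeAbelianGroup.map ((R Y).functor.map g.left.op)
      (FreeAbelianGroup.of (⟨z.hom, h⟩ : {f : z.left ⟶ X // (R Y).arrows f})) =
      FreeAbelianGroup.of ((R Y).functor.map g.left.op ⟨z.hom, h⟩) :=
    FreeAbelianGroup.map_of_apply _
  refine h1.trans ?_
  unfold gen
  congr 1
  apply Subtype.ext
  exact Over.w g

variable (P : Cᵒᵖ ⥤ AddCommGrpCat.{u})

/-- The value of `ψ` on the generator attached to `z`, as a section of the restricted presheaf. -/
def val (ψ : ZR Y ⟶ P) (z : Over X) (h : (R Y).arrows z.hom) : (rP P).obj (op z) :=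
  ψ.app (op z.left) (gen Y z h)

lemma val_map (ψ : ZR Y ⟶ P) {z z' : Over X} (g : z' ⟶ z) (h : (R Y).arrows z.hom)
    (h' : (R Y).arrows z'.hom) :
    (rP P).map g.op (val Y P ψ z h) = val Y P ψ z' h' := by
  unfold val
  rw [← ZR_map_gen Y g h h']
  exact (NatTrans.naturality_apply ψ g.left.op (gen Y z h)).symm

/-- The Čech cochain of a morphism `ZR ⟶ P`. -/
noncomputable def coch (ψ : ZR Y ⟶ P) (n : ℕ) : (CK Y (rP P)).X n :=
  mk Y (rP P) fun σ => val Y P ψ (Uσ Y σ) (mem_of_hom Y (Pi.π (Y ∘ σ) 0))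

lemma proj_coch (ψ : ZR Y ⟶ P) (n : ℕ) (σ : Fin (n + 1) → ι) :
    proj Y (rP P) n σ (coch Y P ψ n) = val Y P ψ (Uσ Y σ) (mem_of_hom Y (Pi.π (Y ∘ σ) 0)) :=
  proj_mk Y (rP P) _ σ

/-- Evaluating the cochain of `ψ` on any tuple gives the value of `ψ` on the generator. -/
lemma ev_coch (ψ : ZR Y ⟶ P) (n : ℕ) {z : Over X} (t : T Y n z) (h : (R Y).arrows z.hom) :
    ev Y (rP P) (coch Y P ψ n) t = val Y P ψ z h := by
  unfold ev
  rw [proj_coch]
  exact val_map Y P ψ (toProd Y t) _ h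

lemma d_coch_zero (ψ : ZR Y ⟶ P) : (CK Y (rP P)).d 0 1 (coch Y P ψ 0) = 0 := by
  apply ext_proj
  intro σ
  rw [← ev_can, ev_d_zero, ev_coch Y P ψ 0 _ (mem_of_hom Y (Pi.π (Y ∘ σ) 0)),
    ev_coch Y P ψ 0 _ (mem_of_hom Y (Pi.π (Y ∘ σ) 0)), sub_self, map_zero]

lemma cmap_coch {Q : Cᵒᵖ ⥤ AddCommGrpCat.{u}} (f : P ⟶ Q) (ψ : ZR Y ⟶ P) (n : ℕ) :
    cmap Y (rMap (U := X) f) n (coch Y P ψ n) = coch Y Q (ψ ≫ f) n := by
  apply ext_proj
  intro σ
  rw [proj_map, proj_coch, proj_coch]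
  rfl

lemma coch_add (ψ ψ' : ZR Y ⟶ P) (n : ℕ) :
    coch Y P (ψ + ψ') n = coch Y P ψ n + coch Y P ψ' n := by
  apply ext_proj
  intro σ
  rw [map_add, proj_coch, proj_coch, proj_coch]
  rfl

/-- A chosen element of `SV Y z` for `z` with structure map in the sieve. -/
noncomputable def chooseSV (z : Over X) (h : (R Y).arrows z.hom) : SV Y z :=
  ⟨((Sieve.mem_ofArrows_iff _ _ _).1 h).choose,
    Over.homMk ((Sieve.mem_ofArrows_iff _ _ _).1 h).choose_spec.choose
      ((Sieve.mem_ofArrows_iff _ _ _).1 h).choose_spec.choose_spec.symm⟩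

/-- `ψ` is determined by its Čech `0`-cochain. -/
lemma eq_zero_of_coch_zero (ψ : ZR Y ⟶ P) (h : coch Y P ψ 0 = 0) : ψ = 0 := by
  ext V : 3
  apply FreeAbelianGroup.lift_ext
  intro s
  obtain ⟨V⟩ := V
  obtain ⟨f, hf⟩ := s
  let z : Over X := Over.mk f
  have hz : (R Y).arrows z.hom := hf
  have h1 := ev_coch Y P ψ 0 (sing Y (chooseSV Y z hz)) hz
  rw [h, ev_zero] at h1
  exact h1.symm

section surj

variable {P} (a : (CK Y (rP P)).X 0) (ha : (CK Y (rP P)).d 0 1 a = 0)

include ha in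
/-- For a cocycle, evaluation on a one-element tuple does not depend on the tuple. -/
lemma ev_sing_eq {z : Over X} (s s' : SV Y z) :
    ev Y (rP P) a (sing Y s) = ev Y (rP P) a (sing Y s') := by
  let t : T Y 1 z := ![s, s']
  have h1 := ev_d_zero Y (rP P) a t
  rw [ha, ev_zero] at h1
  exact (sub_eq_zero.mp h1.symm).symm

/-- The value of the compatible family attached to a cocycle. -/
noncomputable def famVal (z : Over X) (h : (R Y).arrows z.hom) : (rP P).obj (op z) :=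
  ev Y (rP P) a (sing Y (chooseSV Y z h))

include ha in
lemma famVal_eq (z : Over X) (h : (R Y).arrows z.hom) (s : SV Y z) :
    famVal Y a z h = ev Y (rP P) a (sing Y s) :=
  ev_sing_eq Y a ha _ _

include ha in
lemma famVal_map {z z' : Over X} (g : z' ⟶ z) (h : (R Y).arrows z.hom)
    (h' : (R Y).arrows z'.hom) :
    (rP P).map g.op (famVal Y a z h) = famVal Y a z' h' := by
  unfold famVal
  rw [← ev_pre, pre_sing]
  exact ev_sing_eq Y a ha _ _

/-- The family, typed on the presheaf `P`. -/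
noncomputable def famValC (V : C) (s : {f : V ⟶ X // (R Y).arrows f}) : P.obj (op V) :=
  famVal Y a (Over.mk s.1) s.2

include ha in
lemma famValC_natural {V W : C} (g : W ⟶ V) (f : V ⟶ X) (hf : (R Y).arrows f)
    (hgf : (R Y).arrows (g ≫ f)) :
    famValC Y a W ⟨g ≫ f, hgf⟩ = P.map g.op (famValC Y a V ⟨f, hf⟩) :=
  (famVal_map Y a ha (Over.homMk g rfl : Over.mk (g ≫ f) ⟶ Over.mk f) hf hgf).symm

/-- The additive map on sections defined by the family. -/
noncomputable def ofCocycleHom (V : C) :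
    FreeAbelianGroup {f : V ⟶ X // (R Y).arrows f} →+ P.obj (op V) :=
  FreeAbelianGroup.lift (famValC Y a V)

lemma ofCocycleHom_of (V : C) (s : {f : V ⟶ X // (R Y).arrows f}) :
    ofCocycleHom Y a V (FreeAbelianGroup.of s) = famValC Y a V s :=
  FreeAbelianGroup.lift_apply_of _ _

/-- The morphism `ZR ⟶ P` attached to a Čech `0`-cocycle. -/
noncomputable def ofCocycle : ZR Y ⟶ P where
  app V := AddCommGrpCat.ofHom (ofCocycleHom Y a V.unop)
  naturality {V W} g := by
    ext1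
    apply FreeAbelianGroup.lift_ext
    intro s
    obtain ⟨f, hf⟩ := s
    have hgf : (R Y).arrows (g.unop ≫ f) := (R Y).downward_closed hf g.unop
    have e1 : FreeAbelianGroup.map ((R Y).functor.map g)
        (FreeAbelianGroup.of (⟨f, hf⟩ : {f : V.unop ⟶ X // (R Y).arrows f})) =
        FreeAbelianGroup.of (⟨g.unop ≫ f, hgf⟩ : {f : W.unop ⟶ X // (R Y).arrows f}) :=
      FreeAbelianGroup.map_of_apply _
    change ofCocycleHom Y a W.unop (FreeAbelianGroup.map ((R Y).functor.map g)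
        (FreeAbelianGroup.of (⟨f, hf⟩ : {f : V.unop ⟶ X // (R Y).arrows f}))) =
      P.map g (ofCocycleHom Y a V.unop (FreeAbelianGroup.of ⟨f, hf⟩))
    refine (congrArg (ofCocycleHom Y a W.unop) e1).trans ?_
    refine (ofCocycleHom_of Y a W.unop _).trans ?_
    refine (famValC_natural Y a ha g.unop f hf hgf).trans ?_
    exact congrArg (P.map g) (ofCocycleHom_of Y a V.unop ⟨f, hf⟩).symm

lemma val_ofCocycle (z : Over X) (h : (R Y).arrows z.hom) :
    val Y P (ofCocycle Y a ha) z h = famVal Y a z h := by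
  exact ofCocycleHom_of Y a z.left ⟨z.hom, h⟩

lemma coch_ofCocycle : coch Y P (ofCocycle Y a ha) 0 = a := by
  apply ext_proj
  intro σ
  rw [proj_coch, val_ofCocycle, famVal_eq Y a ha _ _ (can Y σ 0), ← eq_sing, ev_can]

end surj

section compare

/-- The free abelian sheaf (for the trivial topology) on the sieve. -/
noncomputable abbrev A : Sheaf (⊥ : GrothendieckTopology C) AddCommGrpCat.{u} :=
  (presheafToSheaf ⊥ AddCommGrpCat.{u}).obj (ZR Y)

variable (C) in
/-- Presheaves as sheaves for the trivial topology. -/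
abbrev Φ : (Cᵒᵖ ⥤ AddCommGrpCat.{u}) ⥤ Sheaf (⊥ : GrothendieckTopology C) AddCommGrpCat.{u} :=
  (sheafBotEquivalence AddCommGrpCat.{u}).inverse

/-- Morphisms `A ⟶ Φ P` as morphisms `ZR ⟶ P`. -/
noncomputable def homToNat : (A Y ⟶ (Φ C).obj P) →+ (ZR Y ⟶ P) :=
  AddMonoidHom.mk' (fun φ => toSheafify ⊥ (ZR Y) ≫ φ.hom) (fun φ φ' =>
    Preadditive.comp_add _ _ _ (toSheafify ⊥ (ZR Y)) φ.hom φ'.hom)

lemma homToNat_apply (φ : A Y ⟶ (Φ C).obj P) :
    homToNat Y P φ = toSheafify ⊥ (ZR Y) ≫ φ.hom := rfl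

lemma homToNat_bijective : Function.Bijective (homToNat Y P) := by
  constructor
  · intro φ φ' h
    apply Sheaf.hom_ext
    exact sheafify_hom_ext ⊥ _ _ (Presheaf.isSheaf_bot P) h
  · intro ψ
    exact ⟨⟨sheafifyLift ⊥ ψ (Presheaf.isSheaf_bot P)⟩, toSheafify_sheafifyLift ⊥ ψ _⟩

/-- Classes in `Ext⁰` as morphisms `ZR ⟶ P`. -/
noncomputable def extToNat : Ext (A Y) ((Φ C).obj P) 0 →+ (ZR Y ⟶ P) :=
  (homToNat Y P).comp Ext.addEquiv₀.toAddMonoidHom

lemma extToNat_bijective : Function.Bijective (extToNat Y P) :=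
  (homToNat_bijective Y P).comp Ext.addEquiv₀.bijective

lemma addEquiv₀_comp_mk₀ {𝒜 : Type*} [Category 𝒜] [Abelian 𝒜] [HasExt.{u} 𝒜] {A₀ B B' : 𝒜}
    (x : Ext A₀ B 0) (g : B ⟶ B') :
    Ext.addEquiv₀ (x.comp (Ext.mk₀ g) (add_zero 0)) = Ext.addEquiv₀ x ≫ g := by
  apply Ext.addEquiv₀.symm.injective
  rw [AddEquiv.symm_apply_apply]
  change _ = Ext.mk₀ (Ext.addEquiv₀ x ≫ g)
  rw [← Ext.mk₀_comp_mk₀, Ext.mk₀_addEquiv₀_apply]

lemma extToNat_naturality {Q : Cᵒᵖ ⥤ AddCommGrpCat.{u}} (f : P ⟶ Q)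
    (x : Ext (A Y) ((Φ C).obj P) 0) :
    extToNat Y Q (x.comp (Ext.mk₀ ((Φ C).map f)) (add_zero 0)) = extToNat Y P x ≫ f := by
  change homToNat Y Q (Ext.addEquiv₀ (x.comp (Ext.mk₀ ((Φ C).map f)) (add_zero 0))) =
    homToNat Y P (Ext.addEquiv₀ x) ≫ f
  rw [addEquiv₀_comp_mk₀, homToNat_apply, homToNat_apply]
  exact (Category.assoc (toSheafify ⊥ (ZR Y)) (Ext.addEquiv₀ x).hom f).symm

/-- The Čech `0`-cochain of a class in `Ext⁰`. -/
noncomputable def cocyHom : Ext (A Y) ((Φ C).obj P) 0 →+ (CK Y (rP P)).X 0 :=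
  (AddMonoidHom.mk' (fun ψ => coch Y P ψ 0) (fun ψ ψ' => coch_add Y P ψ ψ' 0)).comp
    (extToNat Y P)

lemma cocyHom_apply (x : Ext (A Y) ((Φ C).obj P) 0) :
    cocyHom Y P x = coch Y P (extToNat Y P x) 0 := rfl

/-- `cocyHom` as a morphism of `AddCommGrpCat`. -/
noncomputable def cocyMor :
    (extFunctorObj (A Y) 0).obj ((Φ C).obj P) ⟶ (CK Y (rP P)).X 0 :=
  AddCommGrpCat.ofHom (cocyHom Y P)

lemma cocyMor_apply (x : Ext (A Y) ((Φ C).obj P) 0) : cocyMor Y P x = cocyHom Y P x := rfl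

lemma cocyHom_d : cocyMor Y P ≫ (CK Y (rP P)).d 0 1 = 0 := by
  ext x
  exact d_coch_zero Y P (extToNat Y P x)

lemma cocyHom_injective : Function.Injective (cocyHom Y P) := by
  rw [injective_iff_map_eq_zero]
  intro x hx
  have h1 : extToNat Y P x = 0 := eq_zero_of_coch_zero Y P _ hx
  exact (extToNat_bijective Y P).1 (h1.trans (map_zero _).symm)

lemma exists_cocyHom_eq (a : (CK Y (rP P)).X 0) (ha : (CK Y (rP P)).d 0 1 a = 0) :
    ∃ x, cocyHom Y P x = a := by
  obtain ⟨x, hx⟩ := (extToNat_bijective Y P).2 (ofCocycle Y a ha)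
  refine ⟨x, ?_⟩
  rw [cocyHom_apply, hx]
  exact coch_ofCocycle Y a ha

/-- The lift of `cocyMor` to cycles. -/
noncomputable def lift0 :
    (extFunctorObj (A Y) 0).obj ((Φ C).obj P) ⟶ (CK Y (rP P)).cycles 0 :=
  (CK Y (rP P)).liftCycles (cocyMor Y P) 1 (by simp) (cocyHom_d Y P)

lemma lift0_i : lift0 Y P ≫ (CK Y (rP P)).iCycles 0 = cocyMor Y P :=
  HomologicalComplex.liftCycles_i _ _ _ _ _

lemma iCycles_lift0 (x : Ext (A Y) ((Φ C).obj P) 0) :
    (CK Y (rP P)).iCycles 0 (lift0 Y P x) = cocyHom Y P x :=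
  ConcreteCategory.congr_hom (lift0_i Y P) x

lemma lift0_bijective : Function.Bijective (lift0 Y P) := by
  have hi : Function.Injective ((CK Y (rP P)).iCycles 0) :=
    (AddCommGrpCat.mono_iff_injective _).1 inferInstance
  constructor
  · intro x x' hxx'
    have e1 := iCycles_lift0 Y P x
    have e2 := iCycles_lift0 Y P x'
    exact cocyHom_injective Y P (e1.symm.trans ((congrArg _ hxx').trans e2))
  · intro z
    have hz : (CK Y (rP P)).d 0 1 ((CK Y (rP P)).iCycles 0 z) = 0 := by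
      rw [← ConcreteCategory.comp_apply, HomologicalComplex.iCycles_d]
      rfl
    obtain ⟨x, hx⟩ := exists_cocyHom_eq Y P _ hz
    refine ⟨x, ?_⟩
    apply hi
    exact (iCycles_lift0 Y P x).trans hx

/-- The degree-zero comparison `Ext⁰(ℤ_R, P) ⟶ Ȟ⁰(Y, P)`. -/
noncomputable def t0Hom :
    (extFunctorObj (A Y) 0).obj ((Φ C).obj P) ⟶ (CK Y (rP P)).homology 0 :=
  lift0 Y P ≫ (CK Y (rP P)).homologyπ 0

lemma t0Hom_bijective : Function.Bijective (t0Hom Y P) := by
  have h2 : Function.Bijective ((CK Y (rP P)).homologyπ 0) :=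
    ConcreteCategory.bijective_of_isIso _
  have h3 : ⇑(ConcreteCategory.hom (t0Hom Y P)) =
      ⇑(ConcreteCategory.hom ((CK Y (rP P)).homologyπ 0)) ∘
        ⇑(ConcreteCategory.hom (lift0 Y P)) := by
    funext s
    exact ConcreteCategory.comp_apply _ _ s
  rw [h3]
  exact h2.comp (lift0_bijective Y P)

lemma cocyMor_naturality {Q : Cᵒᵖ ⥤ AddCommGrpCat.{u}} (f : P ⟶ Q) :
    cocyMor Y P ≫ ((cechComplexFunctor Y).map (rMap (U := X) f)).f 0 =
      (extFunctorObj (A Y) 0).map ((Φ C).map f) ≫ cocyMor Y Q := by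
  ext x
  change cmap Y (rMap (U := X) f) 0 (coch Y P (extToNat Y P x) 0) =
    coch Y Q (extToNat Y Q (x.comp (Ext.mk₀ ((Φ C).map f)) (add_zero 0))) 0
  rw [cmap_coch]
  exact congrArg (fun ψ => coch Y Q ψ 0) (extToNat_naturality Y P f x).symm

lemma t0Hom_naturality {Q : Cᵒᵖ ⥤ AddCommGrpCat.{u}} (f : P ⟶ Q) :
    t0Hom Y P ≫ HomologicalComplex.homologyMap ((cechComplexFunctor Y).map (rMap (U := X) f)) 0 =
      (extFunctorObj (A Y) 0).map ((Φ C).map f) ≫ t0Hom Y Q := by
  have key : lift0 Y P ≫ HomologicalComplex.cyclesMap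
      ((cechComplexFunctor Y).map (rMap (U := X) f)) 0 =
      (extFunctorObj (A Y) 0).map ((Φ C).map f) ≫ lift0 Y Q := by
    rw [← cancel_mono ((CK Y (rP Q)).iCycles 0), Category.assoc, Category.assoc,
      HomologicalComplex.cyclesMap_i, lift0_i, ← Category.assoc, lift0_i]
    exact cocyMor_naturality Y P f
  unfold t0Hom
  rw [Category.assoc, HomologicalComplex.homologyπ_naturality, ← Category.assoc, key,
    Category.assoc]

instance : (sheafBotEquivalence (C := C) AddCommGrpCat.{u}).functor.Additive :=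
  inferInstanceAs (sheafToPresheaf (⊥ : GrothendieckTopology C) AddCommGrpCat.{u}).Additive

instance : (Φ C).Additive := Equivalence.inverse_additive _
instance : PreservesFiniteLimits (Φ C) := inferInstance
instance : PreservesFiniteColimits (Φ C) := inferInstance

/-- The `Ext` δ-functor out of the free sheaf on the sieve. -/
noncomputable abbrev sieveDelta :
    DeltaF.CohDeltaFunctor (Cᵒᵖ ⥤ AddCommGrpCat.{u}) AddCommGrpCat.{u} ℕ :=
  extDelta (Φ C) (A Y)

lemma sieveDelta_isUniversal : (sieveDelta Y).IsUniversal :=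
  extDelta_isUniversal (Φ C) (A Y) fun I hI =>
    ((sheafBotEquivalence (C := C) AddCommGrpCat.{u}).symm.map_injective_iff I).2 hI

/-- The degree-zero comparison as a natural transformation. -/
noncomputable def t0 : (sieveDelta Y).F 0 ⟶ (cechDelta Y).F 0 where
  app P := t0Hom Y P
  naturality P _ f := (t0Hom_naturality Y P f).symm

instance : IsIso (t0 Y) := by
  have : ∀ P, IsIso ((t0 Y).app P) := fun P =>
    (ConcreteCategory.isIso_iff_bijective _).2 (t0Hom_bijective Y P)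
  exact NatIso.isIso_of_isIso_app _

end compare

/-- Čech cohomology with respect to a family is `Ext` out of the free presheaf on the generated
sieve (in the category of sheaves for the trivial topology). -/
theorem nonempty_iso (M : Cᵒᵖ ⥤ AddCommGrpCat.{u}) (q : ℕ) :
    Nonempty (CohCx.cechH M Y q ≅ AddCommGrpCat.of (CohCx.HK (J := (⊥ : GrothendieckTopology C))
      ⟨(R Y).functor, Presheaf.isSheaf_bot _⟩ ⟨M, Presheaf.isSheaf_bot _⟩ q)) := by
  have hC := cechDelta_isUniversal Y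
  have hS := sieveDelta_isUniversal Y
  obtain ⟨τ, hτ, -⟩ := hS (cechDelta Y) (t0 Y)
  obtain ⟨σ, hσ, -⟩ := hC (sieveDelta Y) (inv (t0 Y))
  have h1 : τ ≫ σ = 𝟙 (sieveDelta Y) := by
    refine (hS (sieveDelta Y) (𝟙 _)).unique ?_ rfl
    rw [DeltaF.CohDeltaFunctor.comp_app, hτ, hσ]
    exact IsIso.hom_inv_id _
  have h2 : σ ≫ τ = 𝟙 (cechDelta Y) := by
    refine (hC (cechDelta Y) (𝟙 _)).unique ?_ rfl
    rw [DeltaF.CohDeltaFunctor.comp_app, hτ, hσ]
    exact IsIso.inv_hom_id _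
  refine ⟨⟨(σ.app q).app M, (τ.app q).app M, ?_, ?_⟩⟩
  · have := congrArg (fun φ : cechDelta Y ⟶ cechDelta Y => (φ.app q).app M) h2
    exact this
  · have := congrArg (fun φ : sieveDelta Y ⟶ sieveDelta Y => (φ.app q).app M) h1
    exact this

end Groth.Agent.Lib.Helper22.CechEdge.SieveCech
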